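import Mathlib
import Groth.Prelude.Def_FSRel

/-!
# Relative formal smoothness and split injectivity of `C ⊗[B] Ω[B⁄A] → Ω[C⁄A]`
-/

set_option linter.unusedSectionVars false

open TensorProduct

namespace Groth.Agent.Helper7.Deriv

universe u

section Ext

variable (A B C : Type u) [CommRing A] [CommRing B] [CommRing C] [Algebra A B] [Algebra B C]
  [Algebra A C] [IsScalarTower A B C]

/-- The twisted structure map `b ↦ (b, 1 ⊗ d b)` into the trivial square-zero extension. -/
noncomputable def rho₀ : B →+* TrivSqZeroExt C (C ⊗[B] Ω[B⁄A]) where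
  toFun b := TrivSqZeroExt.inl (algebraMap B C b) +
    TrivSqZeroExt.inr ((1 : C) ⊗ₜ[B] KaehlerDifferential.D A B b)
  map_one' := by
    apply TrivSqZeroExt.ext
    · simp
    · simp
  map_mul' x y := by
    apply TrivSqZeroExt.ext
    · simp
    · simp only [map_mul, Derivation.leibniz, tmul_add, tmul_smul, TrivSqZeroExt.snd_add,
        TrivSqZeroExt.snd_inl, TrivSqZeroExt.snd_inr, zero_add, TrivSqZeroExt.snd_mul,
        TrivSqZeroExt.fst_add, TrivSqZeroExt.fst_inl, TrivSqZeroExt.fst_inr, add_zero,
        op_smul_eq_smul, algebraMap_smul]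
  map_zero' := by
    apply TrivSqZeroExt.ext
    · simp
    · simp
  map_add' x y := by
    apply TrivSqZeroExt.ext
    · simp
    · simp [tmul_add]

@[simp] theorem rho₀_fst (b : B) : (rho₀ A B C b).fst = algebraMap B C b := by
  simp [rho₀]

@[simp] theorem rho₀_snd (b : B) :
    (rho₀ A B C b).snd = (1 : C) ⊗ₜ[B] KaehlerDifferential.D A B b := by
  simp [rho₀]

/-- The trivial square-zero extension of `C` by `C ⊗[B] Ω[B⁄A]`, as a type synonym (so that it
can carry a twisted `B`-algebra structure). -/
def TExt : Type u := TrivSqZeroExt C (C ⊗[B] Ω[B⁄A])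

noncomputable instance : CommRing (TExt A B C) :=
  inferInstanceAs (CommRing (TrivSqZeroExt C (C ⊗[B] Ω[B⁄A])))

noncomputable instance instAlgB : Algebra B (TExt A B C) := (rho₀ A B C).toAlgebra

noncomputable instance instAlgA : Algebra A (TExt A B C) :=
  ((rho₀ A B C).comp (algebraMap A B)).toAlgebra

instance : IsScalarTower A B (TExt A B C) := IsScalarTower.of_algebraMap_eq (fun _ => rfl)

theorem algebraMap_B_TExt (b : B) : algebraMap B (TExt A B C) b = rho₀ A B C b := rfl

/-- the square-zero ideal -/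
noncomputable def JExt : Ideal (TExt A B C) := TrivSqZeroExt.kerIdeal C (C ⊗[B] Ω[B⁄A])

theorem JExt_sq : JExt A B C ^ 2 = ⊥ := TrivSqZeroExt.kerIdeal_sq C (C ⊗[B] Ω[B⁄A])


/-- the identity ring hom out of the synonym -/
noncomputable def toT : TExt A B C →+* TrivSqZeroExt C (C ⊗[B] Ω[B⁄A]) where
  toFun x := x
  map_one' := rfl
  map_mul' _ _ := rfl
  map_zero' := rfl
  map_add' _ _ := rfl

theorem mem_JExt (x : TExt A B C) :
    x ∈ JExt A B C ↔ (toT A B C x).fst = 0 := by
  exact Iff.rfl

theorem toT_algebraMap (b : B) : toT A B C (algebraMap B (TExt A B C) b) = rho₀ A B C b := rfl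

/-- `inl` as a ring hom into the synonym -/
noncomputable def inlT : C →+* TExt A B C := TrivSqZeroExt.inlHom C (C ⊗[B] Ω[B⁄A])

theorem toT_inlT (c : C) : toT A B C (inlT A B C c) = TrivSqZeroExt.inl c := rfl

theorem exists_leftInverse_of_isFormallySmoothRel (h : EGA41.IsFormallySmoothRel A B C) :
    ∃ l : Ω[C⁄A] →ₗ[C] C ⊗[B] Ω[B⁄A],
      l ∘ₗ KaehlerDifferential.mapBaseChange A B C = LinearMap.id := by
  -- the B-algebra map `C → T/J`
  let u₀ : C →ₐ[B] TExt A B C ⧸ JExt A B C :=
    { (Ideal.Quotient.mk (JExt A B C)).comp (inlT A B C) with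
      commutes' := fun b => by
        change Ideal.Quotient.mk (JExt A B C) (inlT A B C (algebraMap B C b)) =
          Ideal.Quotient.mk (JExt A B C) (algebraMap B (TExt A B C) b)
        rw [Ideal.Quotient.eq, mem_JExt, map_sub, toT_inlT, toT_algebraMap]
        simp }
  -- the A-algebra lift
  let uu : C →ₐ[A] TExt A B C :=
    { inlT A B C with
      commutes' := fun a => by
        change toT A B C (inlT A B C (algebraMap A C a)) = rho₀ A B C (algebraMap A B a)
        rw [toT_inlT]
        apply TrivSqZeroExt.ext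
        · simp [← IsScalarTower.algebraMap_apply]
        · simp }
  obtain ⟨v, hv⟩ := h (TExt A B C) (JExt A B C) (JExt_sq A B C) u₀ ⟨uu, by ext c; rfl⟩
  -- view `v` as a ring hom into the honest trivial square-zero extension
  let vT : C →+* TrivSqZeroExt C (C ⊗[B] Ω[B⁄A]) :=
    (toT A B C).comp v.toRingHom
  have hfst : ∀ c : C, (vT c).fst = c := by
    intro c
    have h1 := DFunLike.congr_fun hv c
    change Ideal.Quotient.mk (JExt A B C) (v c) =
      Ideal.Quotient.mk (JExt A B C) (inlT A B C c) at h1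
    rw [Ideal.Quotient.eq, mem_JExt, map_sub, toT_inlT, TrivSqZeroExt.fst_sub,
      TrivSqZeroExt.fst_inl, sub_eq_zero] at h1
    exact h1
  have hB : ∀ b : B, vT (algebraMap B C b) = rho₀ A B C b := fun b => v.commutes b
  have hsndmul : ∀ c₁ c₂ : C, (vT (c₁ * c₂)).snd = c₁ • (vT c₂).snd + c₂ • (vT c₁).snd := by
    intro c₁ c₂
    rw [map_mul, TrivSqZeroExt.snd_mul, hfst, hfst, op_smul_eq_smul]
  -- the derivation
  let δlin : C →ₗ[A] C ⊗[B] Ω[B⁄A] :=
    { toFun := fun c => (vT c).snd
      map_add' := fun x y => by simp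
      map_smul' := fun a c => by
        rw [Algebra.smul_def, hsndmul, IsScalarTower.algebraMap_apply A B C, hB]
        simp }
  let δ : Derivation A C (C ⊗[B] Ω[B⁄A]) := Derivation.mk' δlin (fun a b => hsndmul a b)
  refine ⟨δ.liftKaehlerDifferential, ?_⟩
  have key : ∀ ω : Ω[B⁄A],
      δ.liftKaehlerDifferential (KaehlerDifferential.map A A B C ω) = (1 : C) ⊗ₜ[B] ω := by
    intro ω
    have hω : ω ∈ Submodule.span B (Set.range (KaehlerDifferential.D A B)) := by
      rw [KaehlerDifferential.span_range_derivation]; trivial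
    induction hω using Submodule.span_induction with
    | mem x hx =>
      obtain ⟨b, rfl⟩ := hx
      rw [KaehlerDifferential.map_D, Derivation.liftKaehlerDifferential_comp_D]
      change (vT (algebraMap B C b)).snd = _
      rw [hB, rho₀_snd]
    | zero => simp
    | add x y _ _ hx hy => rw [map_add, map_add, hx, hy, tmul_add]
    | smul b x _ hx =>
      rw [map_smul, ← algebraMap_smul C b (KaehlerDifferential.map A A B C x), map_smul, hx,
        TensorProduct.smul_tmul', tmul_smul, algebraMap_smul, TensorProduct.smul_tmul']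
  apply LinearMap.ext
  intro z
  induction z using TensorProduct.induction_on with
  | zero => simp
  | tmul c ω =>
    rw [LinearMap.comp_apply, KaehlerDifferential.mapBaseChange_tmul, map_smul, key,
      LinearMap.id_apply, TensorProduct.smul_tmul', smul_eq_mul, mul_one]
  | add x y hx hy => rw [map_add, hx, hy, map_add]

theorem isFormallySmoothRel_of_leftInverse (l : Ω[C⁄A] →ₗ[C] C ⊗[B] Ω[B⁄A])
    (hl : l ∘ₗ KaehlerDifferential.mapBaseChange A B C = LinearMap.id) :
    EGA41.IsFormallySmoothRel A B C := by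
  intro C' _ _ _ _ J hJ u₀ hu
  obtain ⟨u, hu⟩ := hu
  -- `C'` as a `C`-algebra through `u`
  let algCC' : Algebra C C' := u.toRingHom.toAlgebra
  have hCC' : ∀ c : C, algebraMap C C' c = u c := fun _ => rfl
  have towerACC' : IsScalarTower A C C' :=
    IsScalarTower.of_algebraMap_eq (fun a => (u.commutes a).symm)
  -- the other `A`-algebra map `B → C'`
  let σ : B →ₐ[A] C' := u.comp (IsScalarTower.toAlgHom A B C)
  have hσ : ∀ b, σ b = u (algebraMap B C b) := fun _ => rfl
  have hmk : ∀ c : C, Ideal.Quotient.mk J (u c) = u₀ c := fun c => DFunLike.congr_fun hu c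
  have e : (Ideal.Quotient.mkₐ A J).comp σ = IsScalarTower.toAlgHom A B (C' ⧸ J) := by
    ext b
    change Ideal.Quotient.mk J (u (algebraMap B C b)) = algebraMap B (C' ⧸ J) b
    rw [hmk, u₀.commutes]
  let D₀ : Derivation A B J := derivationToSquareZeroOfLift J hJ σ e
  have hD₀ : ∀ b, (D₀ b : C') = u (algebraMap B C b) - algebraMap B C' b := fun _ => rfl
  have hJJ : ∀ x ∈ J, ∀ y ∈ J, x * y = 0 := by
    intro x hx y hy
    have : x * y ∈ J ^ 2 := by rw [pow_two]; exact Ideal.mul_mem_mul hx hy
    rwa [hJ] at this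
  have towerBCJ : IsScalarTower B C J := by
    refine ⟨fun b c j => Subtype.ext ?_⟩
    simp only [Submodule.coe_smul_of_tower]
    rw [Algebra.smul_def (b • c) (j : C'), Algebra.smul_def b (c • (j : C')),
      Algebra.smul_def c (j : C'), Algebra.smul_def b c, map_mul, hCC', hCC', mul_assoc]
    have h0 := hJJ _ (D₀ b).2 _ (J.mul_mem_left (u c) j.2)
    rw [hD₀, sub_mul, sub_eq_zero] at h0
    exact h0
  let l₀ : Ω[B⁄A] →ₗ[B] J := D₀.liftKaehlerDifferential
  let L : C ⊗[B] Ω[B⁄A] →ₗ[C] J := LinearMap.liftBaseChange C l₀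
  let D' : Derivation A C J := (L ∘ₗ l).compDer (KaehlerDifferential.D A C)
  have hD' : ∀ b : B, D' (algebraMap B C b) = D₀ b := by
    intro b
    change L (l (KaehlerDifferential.D A C (algebraMap B C b))) = D₀ b
    have h1 : KaehlerDifferential.D A C (algebraMap B C b) =
        KaehlerDifferential.mapBaseChange A B C ((1 : C) ⊗ₜ[B] KaehlerDifferential.D A B b) := by
      rw [KaehlerDifferential.mapBaseChange_tmul, one_smul, KaehlerDifferential.map_D]
    rw [h1]
    have h2 := DFunLike.congr_fun hl ((1 : C) ⊗ₜ[B] KaehlerDifferential.D A B b)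
    rw [LinearMap.comp_apply, LinearMap.id_apply] at h2
    rw [h2, LinearMap.liftBaseChange_tmul, one_smul, Derivation.liftKaehlerDifferential_comp_D]
  let v : C →ₐ[A] C' := liftOfDerivationToSquareZero J hJ (-D')
  have hv : ∀ c, v c = -(D' c : C') + u c := fun _ => rfl
  refine ⟨{ v.toRingHom with commutes' := fun b => ?_ }, ?_⟩
  · change v (algebraMap B C b) = algebraMap B C' b
    rw [hv, hD', hD₀]
    ring
  · ext c
    change Ideal.Quotient.mk J (v c) = u₀ c
    rw [hv, map_add, map_neg, Ideal.Quotient.eq_zero_iff_mem.mpr (D' c).2, neg_zero, zero_add, hmk]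

end Ext

end Groth.Agent.Helper7.Deriv
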