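import Mathlib
import Groth.Prelude.Def_Omega3

/-!
# Universal first order thickening of a formally unramified algebra
-/

set_option linter.unusedSectionVars false

open TensorProduct

namespace Groth.Agent.Helper7.Deriv

universe u

section

variable (R : Type u) [CommRing R] (S : Type u) [CommRing S] [Algebra R S]

/-- The polynomial ring on the elements of `S`. -/
abbrev PolyS : Type u := MvPolynomial S R

/-- The canonical presentation. -/
noncomputable def presS : PolyS R S →ₐ[R] S := MvPolynomial.aeval id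

theorem presS_surjective : Function.Surjective (presS R S) := fun s =>
  ⟨MvPolynomial.X s, by simp [presS]⟩

/-- `S` as an algebra over the polynomial ring -/
@[reducible] noncomputable def algPS : Algebra (PolyS R S) S := (presS R S).toRingHom.toAlgebra

attribute [local instance] algPS

instance : IsScalarTower R (PolyS R S) S :=
  IsScalarTower.of_algebraMap_eq (fun r => ((presS R S).commutes r).symm)

theorem algebraMap_PS (p : PolyS R S) : algebraMap (PolyS R S) S p = presS R S p := rfl

theorem algebraMap_PS_surjective : Function.Surjective (algebraMap (PolyS R S) S) :=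
  presS_surjective R S

/-- kernel of `1 ⊗ -` for a surjective algebra map -/
theorem mem_smul_top_of_one_tmul_eq_zero {P : Type u} [CommRing P] {T : Type u} [CommRing T]
    [Algebra P T] (hs : Function.Surjective (algebraMap P T)) {M : Type u} [AddCommGroup M]
    [Module P M] (x : M) (hx : (1 : T) ⊗ₜ[P] x = 0) :
    x ∈ (RingHom.ker (algebraMap P T)) • (⊤ : Submodule P M) := by
  set J := RingHom.ker (algebraMap P T) with hJ
  let e : (P ⧸ J) ≃ₐ[P] T := Ideal.quotientKerAlgEquivOfSurjective (f := Algebra.ofId P T) hs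
  have h1 : (LinearMap.rTensor M e.symm.toLinearMap) ((1 : T) ⊗ₜ[P] x) = 0 := by rw [hx, map_zero]
  rw [LinearMap.rTensor_tmul] at h1
  have h2 : e.symm.toLinearMap (1 : T) = 1 := map_one e.symm
  rw [h2] at h1
  have h3 : x ∈ LinearMap.ker (TensorProduct.mk P (P ⧸ J) M 1) := h1
  rwa [LinearMap.ker_tensorProductMk] at h3

variable [Algebra.FormallyUnramified R S]

theorem exists_corr (s : S) : ∃ g : PolyS R S, g ∈ RingHom.ker (algebraMap (PolyS R S) S) ∧
    KaehlerDifferential.D R (PolyS R S) g - KaehlerDifferential.D R (PolyS R S) (MvPolynomial.X s) ∈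
      (RingHom.ker (algebraMap (PolyS R S) S)) • (⊤ : Submodule (PolyS R S) Ω[PolyS R S⁄R]) := by
  have hsub : Subsingleton Ω[S⁄R] := inferInstance
  have hex := KaehlerDifferential.exact_kerCotangentToTensor_mapBaseChange R (PolyS R S) S
    (algebraMap_PS_surjective R S)
  have h0 : KaehlerDifferential.mapBaseChange R (PolyS R S) S
      ((1 : S) ⊗ₜ[PolyS R S] KaehlerDifferential.D R (PolyS R S) (MvPolynomial.X s)) = 0 :=
    Subsingleton.elim _ _
  obtain ⟨c, hc⟩ := (hex _).1 h0
  obtain ⟨g, rfl⟩ := Ideal.toCotangent_surjective _ c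
  rw [KaehlerDifferential.kerCotangentToTensor_toCotangent] at hc
  refine ⟨g.1, g.2, ?_⟩
  apply mem_smul_top_of_one_tmul_eq_zero (algebraMap_PS_surjective R S)
  rw [tmul_sub, hc, sub_self]

/-- chosen corrections `f s ∈ J` with `d (f s) ≡ d (X s)` modulo `J Ω` -/
noncomputable def corr (s : S) : PolyS R S := (exists_corr R S s).choose

theorem corr_mem (s : S) : corr R S s ∈ RingHom.ker (algebraMap (PolyS R S) S) :=
  (exists_corr R S s).choose_spec.1

theorem corr_spec (s : S) :
    KaehlerDifferential.D R (PolyS R S) (corr R S s) -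
      KaehlerDifferential.D R (PolyS R S) (MvPolynomial.X s) ∈
      (RingHom.ker (algebraMap (PolyS R S) S)) • (⊤ : Submodule (PolyS R S) Ω[PolyS R S⁄R]) :=
  (exists_corr R S s).choose_spec.2

/-- Key claim: a derivation into a square-zero ideal killed by `J` takes the same value on
`corr s` and on `X s`. -/
theorem der_corr_eq {A : Type u} [CommRing A] [Algebra R A] [Algebra (PolyS R S) A]
    [IsScalarTower R (PolyS R S) A] (I : Ideal A) (hI : I ^ 2 = ⊥)
    (hJI : ∀ p ∈ RingHom.ker (algebraMap (PolyS R S) S), algebraMap (PolyS R S) A p ∈ I)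
    (Δ : Derivation R (PolyS R S) I) (s : S) : Δ (corr R S s) = Δ (MvPolynomial.X s) := by
  have hle : (RingHom.ker (algebraMap (PolyS R S) S)) • (⊤ : Submodule (PolyS R S) Ω[PolyS R S⁄R]) ≤
      LinearMap.ker Δ.liftKaehlerDifferential := by
    rw [Submodule.smul_le]
    intro p hp m _
    rw [LinearMap.mem_ker, map_smul]
    apply Subtype.ext
    rw [Submodule.coe_smul_of_tower, Algebra.smul_def, Submodule.coe_zero]
    have : algebraMap (PolyS R S) A p * (Δ.liftKaehlerDifferential m : A) ∈ I ^ 2 := by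
      rw [pow_two]; exact Ideal.mul_mem_mul (hJI p hp) (Δ.liftKaehlerDifferential m).2
    rwa [hI] at this
  have h1 := hle (corr_spec R S s)
  rw [LinearMap.mem_ker, map_sub, Derivation.liftKaehlerDifferential_comp_D,
    Derivation.liftKaehlerDifferential_comp_D, sub_eq_zero] at h1
  exact h1

/-- the ideal `J² + (corr s)` -/
noncomputable def thickIdeal : Ideal (PolyS R S) :=
  (RingHom.ker (algebraMap (PolyS R S) S)) ^ 2 ⊔ Ideal.span (Set.range (corr R S))

theorem thickIdeal_le : thickIdeal R S ≤ RingHom.ker (presS R S).toRingHom := by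
  refine sup_le ?_ ?_
  · exact (Ideal.pow_le_self two_ne_zero)
  · rw [Ideal.span_le]
    rintro _ ⟨s, rfl⟩
    exact corr_mem R S s

/-- the universal first order thickening -/
abbrev Thick : Type u := PolyS R S ⧸ thickIdeal R S

/-- the projection -/
noncomputable def thickProj : Thick R S →ₐ[R] S :=
  Ideal.Quotient.liftₐ (thickIdeal R S) (presS R S) (fun _ hp => thickIdeal_le R S hp)

theorem thickProj_mk (p : PolyS R S) :
    thickProj R S (Ideal.Quotient.mk (thickIdeal R S) p) = presS R S p := rfl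

theorem thickProj_surjective : Function.Surjective (thickProj R S) := fun s => by
  obtain ⟨p, rfl⟩ := presS_surjective R S s
  exact ⟨Ideal.Quotient.mk _ p, rfl⟩

theorem thickProj_ker_sq : RingHom.ker (thickProj R S).toRingHom ^ 2 = ⊥ := by
  rw [eq_bot_iff, pow_two, Ideal.mul_le]
  intro x hx y hy
  obtain ⟨p, rfl⟩ := Ideal.Quotient.mk_surjective x
  obtain ⟨q, rfl⟩ := Ideal.Quotient.mk_surjective y
  have hp : p ∈ RingHom.ker (algebraMap (PolyS R S) S) := hx
  have hq : q ∈ RingHom.ker (algebraMap (PolyS R S) S) := hy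
  rw [Ideal.mem_bot, ← map_mul, Ideal.Quotient.eq_zero_iff_mem]
  apply Ideal.mem_sup_left
  rw [pow_two]
  exact Ideal.mul_mem_mul hp hq

theorem isUnivThickeningRing_thick :
    OmegaSh.IsUnivThickeningRing R S (Thick R S) (thickProj R S) := by
  refine ⟨thickProj_surjective R S, thickProj_ker_sq R S, ?_⟩
  intro A _ _ I hI a
  have hII : ∀ x ∈ I, ∀ y ∈ I, x * y = 0 := by
    intro x hx y hy
    have : x * y ∈ I ^ 2 := by rw [pow_two]; exact Ideal.mul_mem_mul hx hy
    rwa [hI] at this
  -- a general fact about lifts `χ : P → A` of `a ∘ pres`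
  have hlift : ∀ χ : PolyS R S →ₐ[R] A, (Ideal.Quotient.mkₐ R I).comp χ = a.comp (presS R S) →
      ∀ p ∈ RingHom.ker (algebraMap (PolyS R S) S), χ p ∈ I := by
    intro χ hχ p hp
    have h1 := DFunLike.congr_fun hχ p
    change Ideal.Quotient.mk I (χ p) = a (presS R S p) at h1
    have h2 : presS R S p = 0 := hp
    rw [h2, map_zero] at h1
    exact Ideal.Quotient.eq_zero_iff_mem.mp h1
  refine existsUnique_of_exists_of_unique ?_ ?_
  · -- existence
    choose g hg using fun s : S => Ideal.Quotient.mk_surjective (a s)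
    let φ₀ : PolyS R S →ₐ[R] A := MvPolynomial.aeval g
    have hφ₀ : (Ideal.Quotient.mkₐ R I).comp φ₀ = a.comp (presS R S) := by
      apply MvPolynomial.algHom_ext
      intro s
      simp [φ₀, presS, hg]
    let algPA : Algebra (PolyS R S) A := φ₀.toRingHom.toAlgebra
    have tower : IsScalarTower R (PolyS R S) A :=
      IsScalarTower.of_algebraMap_eq (fun r => (φ₀.commutes r).symm)
    have hJI : ∀ p ∈ RingHom.ker (algebraMap (PolyS R S) S), algebraMap (PolyS R S) A p ∈ I :=
      hlift φ₀ hφ₀
    let Δ : Derivation R (PolyS R S) I :=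
      MvPolynomial.mkDerivation R (fun s => -⟨φ₀ (corr R S s), hJI _ (corr_mem R S s)⟩)
    let φ₁ : PolyS R S →ₐ[R] A := liftOfDerivationToSquareZero I hI Δ
    have hφ₁ : ∀ p, φ₁ p = (Δ p : A) + φ₀ p := fun _ => rfl
    have hφ₁mk : (Ideal.Quotient.mkₐ R I).comp φ₁ = a.comp (presS R S) := by
      rw [← hφ₀]
      refine AlgHom.ext fun p => ?_
      change Ideal.Quotient.mk I (φ₁ p) = Ideal.Quotient.mk I (φ₀ p)
      rw [hφ₁, map_add, Ideal.Quotient.eq_zero_iff_mem.mpr (Δ p).2, zero_add]
    have hcorr : ∀ s, φ₁ (corr R S s) = 0 := by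
      intro s
      rw [hφ₁, der_corr_eq R S I hI hJI Δ s]
      simp [Δ]
    have hker : ∀ p ∈ thickIdeal R S, φ₁ p = 0 := by
      intro p hp
      have hle : thickIdeal R S ≤ RingHom.ker φ₁.toRingHom := by
        refine sup_le ?_ ?_
        · rw [pow_two, Ideal.mul_le]
          intro x hx y hy
          rw [RingHom.mem_ker, map_mul]
          exact hII _ (hlift φ₁ hφ₁mk x hx) _ (hlift φ₁ hφ₁mk y hy)
        · rw [Ideal.span_le]
          rintro _ ⟨s, rfl⟩
          exact hcorr s
      exact hle hp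
    refine ⟨Ideal.Quotient.liftₐ (thickIdeal R S) φ₁ hker, ?_⟩
    apply Ideal.Quotient.algHom_ext
    exact hφ₁mk
  · -- uniqueness
    intro ψ₁ ψ₂ h₁ h₂
    let χ₁ : PolyS R S →ₐ[R] A := ψ₁.comp (Ideal.Quotient.mkₐ R (thickIdeal R S))
    let χ₂ : PolyS R S →ₐ[R] A := ψ₂.comp (Ideal.Quotient.mkₐ R (thickIdeal R S))
    have hχ₁ : (Ideal.Quotient.mkₐ R I).comp χ₁ = a.comp (presS R S) := by
      change ((Ideal.Quotient.mkₐ R I).comp ψ₁).comp (Ideal.Quotient.mkₐ R (thickIdeal R S)) = _
      rw [h₁]; rfl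
    have hχ₂ : (Ideal.Quotient.mkₐ R I).comp χ₂ = a.comp (presS R S) := by
      change ((Ideal.Quotient.mkₐ R I).comp ψ₂).comp (Ideal.Quotient.mkₐ R (thickIdeal R S)) = _
      rw [h₂]; rfl
    let algPA : Algebra (PolyS R S) A := χ₁.toRingHom.toAlgebra
    have tower : IsScalarTower R (PolyS R S) A :=
      IsScalarTower.of_algebraMap_eq (fun r => (χ₁.commutes r).symm)
    have hJI : ∀ p ∈ RingHom.ker (algebraMap (PolyS R S) S), algebraMap (PolyS R S) A p ∈ I :=
      hlift χ₁ hχ₁
    have e : (Ideal.Quotient.mkₐ R I).comp χ₂ = IsScalarTower.toAlgHom R (PolyS R S) (A ⧸ I) := by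
      rw [hχ₂, ← hχ₁]; rfl
    let Δ : Derivation R (PolyS R S) I := derivationToSquareZeroOfLift I hI χ₂ e
    have hΔ : ∀ p, (Δ p : A) = χ₂ p - χ₁ p := fun _ => rfl
    have hcorr : ∀ (χ : Thick R S →ₐ[R] A) (s : S),
        χ (Ideal.Quotient.mk (thickIdeal R S) (corr R S s)) = 0 := by
      intro χ s
      have : Ideal.Quotient.mk (thickIdeal R S) (corr R S s) = 0 := by
        rw [Ideal.Quotient.eq_zero_iff_mem]
        exact Ideal.mem_sup_right (Ideal.subset_span ⟨s, rfl⟩)
      rw [this, map_zero]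
    have hΔ0 : Δ = 0 := by
      apply MvPolynomial.derivation_ext
      intro s
      rw [← der_corr_eq R S I hI hJI Δ s]
      apply Subtype.ext
      rw [hΔ]
      change ψ₂ (Ideal.Quotient.mk _ (corr R S s)) - ψ₁ (Ideal.Quotient.mk _ (corr R S s)) = _
      rw [hcorr ψ₁ s, hcorr ψ₂ s]
      simp
    apply Ideal.Quotient.algHom_ext
    refine AlgHom.ext fun p => ?_
    have h3 : (Δ p : A) = 0 := by rw [hΔ0]; rfl
    rw [hΔ, sub_eq_zero] at h3
    exact h3.symm

end

end Groth.Agent.Helper7.Deriv
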