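import Mathlib
import Groth.Prelude.Def_Omega3
import Groth.Agent.Lib.Helper7.Deriv.RelSmooth

/-!
# Properties of a universal first order thickening
-/

set_option linter.unusedSectionVars false

open TensorProduct

namespace Groth.Agent.Helper7.Deriv

universe u

section

variable {A : Type u} [CommRing A] {B : Type u} [CommRing B] [Algebra A B]
  {B' : Type u} [CommRing B'] [Algebra A B'] [Algebra B' B] [IsScalarTower A B' B]

/-- Uniqueness in a convenient form. -/
theorem univThick_unique (h : OmegaSh.IsUnivThickeningRing A B B' (IsScalarTower.toAlgHom A B' B))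
    {C : Type u} [CommRing C] [Algebra A C] (K : Ideal C) (hK : K ^ 2 = ⊥)
    (g₁ g₂ : B' →ₐ[A] C) (h1 : ∀ x ∈ RingHom.ker (algebraMap B' B), g₁ x ∈ K)
    (h2 : ∀ x, g₁ x - g₂ x ∈ K) : g₁ = g₂ := by
  obtain ⟨hsurj, -, huniv⟩ := h
  have hsurj' : Function.Surjective (algebraMap B' B) := hsurj
  -- the induced map `B → C/K`
  let e : (B' ⧸ RingHom.ker (IsScalarTower.toAlgHom A B' B)) ≃ₐ[A] B :=
    Ideal.quotientKerAlgEquivOfSurjective hsurj
  let a₀ : (B' ⧸ RingHom.ker (IsScalarTower.toAlgHom A B' B)) →ₐ[A] C ⧸ K :=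
    Ideal.Quotient.liftₐ _ ((Ideal.Quotient.mkₐ A K).comp g₁) (fun x hx => by
      change Ideal.Quotient.mk K (g₁ x) = 0
      rw [Ideal.Quotient.eq_zero_iff_mem]
      exact h1 x hx)
  let a : B →ₐ[A] C ⧸ K := a₀.comp e.symm.toAlgHom
  have ha : ∀ x : B', a (algebraMap B' B x) = Ideal.Quotient.mk K (g₁ x) := by
    intro x
    have : e.symm (algebraMap B' B x) = Ideal.Quotient.mk _ x := by
      rw [AlgEquiv.symm_apply_eq]
      rfl
    change a₀ (e.symm (algebraMap B' B x)) = _
    rw [this]
    rfl
  obtain ⟨a', -, hu⟩ := huniv C K hK a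
  have e1 : g₁ = a' := hu g₁ (by
    refine AlgHom.ext fun x => ?_
    change Ideal.Quotient.mk K (g₁ x) = a (algebraMap B' B x)
    rw [ha])
  have e2 : g₂ = a' := hu g₂ (by
    refine AlgHom.ext fun x => ?_
    change Ideal.Quotient.mk K (g₂ x) = a (algebraMap B' B x)
    rw [ha, eq_comm, Ideal.Quotient.eq]
    exact h2 x)
  rw [e1, e2]

theorem formallyUnramified_of_univThick
    (h : OmegaSh.IsUnivThickeningRing A B B' (IsScalarTower.toAlgHom A B' B)) :
    Algebra.FormallyUnramified A B' := by
  rw [Algebra.FormallyUnramified.iff_comp_injective]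
  intro C _ _ N hN g₁ g₂ hg
  have hsub : ∀ x, g₁ x - g₂ x ∈ N := by
    intro x
    have := DFunLike.congr_fun hg x
    change Ideal.Quotient.mk N (g₁ x) = Ideal.Quotient.mk N (g₂ x) at this
    rwa [Ideal.Quotient.eq] at this
  have hI' : RingHom.ker (algebraMap B' B) ^ 2 = ⊥ := h.2.1
  set I' := RingHom.ker (algebraMap B' B) with hI'def
  set P : Ideal C := I'.map g₁.toRingHom with hP
  have hPP : P * P = ⊥ := by
    rw [hP, ← Ideal.map_mul, ← pow_two, hI', Ideal.map_bot]
  have hNN : N * N = ⊥ := by rw [← pow_two, hN]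
  have hPmem : ∀ x ∈ I', g₁ x ∈ P := fun x hx => Ideal.mem_map_of_mem g₁.toRingHom hx
  set N' : Ideal C := P * N with hN'
  have hN'N : N' ≤ N := Ideal.mul_le_right
  -- Step 1
  have step1 : ∀ x, g₁ x - g₂ x ∈ N' := by
    let K₁ : Ideal (C ⧸ N') := (P ⊔ N).map (Ideal.Quotient.mk N')
    have hK₁ : K₁ ^ 2 = ⊥ := by
      rw [← Ideal.map_pow, eq_bot_iff, ← Ideal.map_quotient_self N']
      apply Ideal.map_mono
      rw [pow_two, Ideal.sup_mul, Ideal.mul_sup, Ideal.mul_sup, hPP, hNN, mul_comm N P]
      simp [hN']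
    have := univThick_unique h K₁ hK₁ ((Ideal.Quotient.mkₐ A N').comp g₁)
      ((Ideal.Quotient.mkₐ A N').comp g₂)
      (fun x hx => Ideal.mem_map_of_mem _ (Ideal.mem_sup_left (hPmem x hx)))
      (fun x => by
        change Ideal.Quotient.mk N' (g₁ x) - Ideal.Quotient.mk N' (g₂ x) ∈ K₁
        rw [← map_sub]
        exact Ideal.mem_map_of_mem _ (Ideal.mem_sup_right (hsub x)))
    intro x
    have h3 := DFunLike.congr_fun this x
    change Ideal.Quotient.mk N' (g₁ x) = Ideal.Quotient.mk N' (g₂ x) at h3
    rwa [Ideal.Quotient.eq] at h3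
  -- Step 2
  let K₂ : Ideal C := P ⊔ N'
  have hK₂ : K₂ ^ 2 = ⊥ := by
    rw [eq_bot_iff, pow_two, Ideal.sup_mul, Ideal.mul_sup, Ideal.mul_sup, hPP]
    have h1 : P * N' = ⊥ := by rw [hN', ← mul_assoc, hPP, Ideal.bot_mul]
    have h2 : N' * N' = ⊥ := by
      rw [eq_bot_iff, ← hNN]; exact Ideal.mul_mono hN'N hN'N
    rw [mul_comm N' P, h1, h2]
    simp
  exact univThick_unique h K₂ hK₂ g₁ g₂ (fun x hx => Ideal.mem_sup_left (hPmem x hx))
    (fun x => Ideal.mem_sup_right (step1 x))

end

section

variable (A B C : Type u) [CommRing A] [CommRing B] [CommRing C] [Algebra A B] [Algebra B C]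
  [Algebra A C] [IsScalarTower A B C]

/-- the canonical `B`-algebra map `C → T/J` for the twisted structure -/
noncomputable def u₀Ext : C →ₐ[B] TExt A B C ⧸ JExt A B C :=
  { (Ideal.Quotient.mk (JExt A B C)).comp (inlT A B C) with
    commutes' := fun b => by
      change Ideal.Quotient.mk (JExt A B C) (inlT A B C (algebraMap B C b)) =
        Ideal.Quotient.mk (JExt A B C) (algebraMap B (TExt A B C) b)
      rw [Ideal.Quotient.eq, mem_JExt, map_sub, toT_inlT, toT_algebraMap]
      simp }

theorem u₀Ext_apply (c : C) :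
    u₀Ext A B C c = Ideal.Quotient.mk (JExt A B C) (inlT A B C c) := rfl

end

section

variable (R : Type u) [CommRing R] {A : Type u} [CommRing A] {B : Type u} [CommRing B]
  [Algebra A B] {B' : Type u} [CommRing B'] [Algebra A B'] [Algebra B' B] [IsScalarTower A B' B]
  [Algebra R A] [Algebra R B'] [IsScalarTower R A B']

theorem baseChange_bijective_of_univThick
    (h : OmegaSh.IsUnivThickeningRing A B B' (IsScalarTower.toAlgHom A B' B)) :
    Function.Bijective ((KaehlerDifferential.mapBaseChange R A B').baseChange B) := by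
  have hunr : Algebra.FormallyUnramified A B' := formallyUnramified_of_univThick h
  have hs1 : Function.Surjective (KaehlerDifferential.mapBaseChange R A B') := by
    intro ω
    have h0 : KaehlerDifferential.map R A B' B' ω = 0 := Subsingleton.elim _ _
    exact (KaehlerDifferential.exact_mapBaseChange_map R A B' ω).1 h0
  refine ⟨?_, LinearMap.lTensor_surjective B hs1⟩
  -- injectivity: construct a retraction
  let algRB : Algebra R B := ((algebraMap A B).comp (algebraMap R A)).toAlgebra
  have towerRAB : IsScalarTower R A B := IsScalarTower.of_algebraMap_eq (fun _ => rfl)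
  have towerRB'B : IsScalarTower R B' B := IsScalarTower.of_algebraMap_eq (fun r => by
    change algebraMap A B (algebraMap R A r) = algebraMap B' B (algebraMap R B' r)
    rw [IsScalarTower.algebraMap_apply R A B', ← IsScalarTower.algebraMap_apply A B' B])
  obtain ⟨a', ha', -⟩ := h.2.2 (TExt R A B) (JExt R A B) (JExt_sq R A B) (u₀Ext R A B)
  let vT : B' →+* TrivSqZeroExt B (B ⊗[A] Ω[A⁄R]) := (toT R A B).comp a'.toRingHom
  have hfst : ∀ x : B', (vT x).fst = algebraMap B' B x := by
    intro x
    have h1 := DFunLike.congr_fun ha' x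
    change Ideal.Quotient.mk (JExt R A B) (a' x) =
      Ideal.Quotient.mk (JExt R A B) (inlT R A B (algebraMap B' B x)) at h1
    rw [Ideal.Quotient.eq, mem_JExt, map_sub, toT_inlT, TrivSqZeroExt.fst_sub,
      TrivSqZeroExt.fst_inl, sub_eq_zero] at h1
    exact h1
  have hA : ∀ a : A, vT (algebraMap A B' a) = rho₀ R A B a := fun a => a'.commutes a
  have hsndmul : ∀ x y : B', (vT (x * y)).snd = x • (vT y).snd + y • (vT x).snd := by
    intro x y
    rw [map_mul, TrivSqZeroExt.snd_mul, hfst, hfst, op_smul_eq_smul, algebraMap_smul,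
      algebraMap_smul]
  let δlin : B' →ₗ[R] B ⊗[A] Ω[A⁄R] :=
    { toFun := fun x => (vT x).snd
      map_add' := fun x y => by simp
      map_smul' := fun r x => by
        rw [Algebra.smul_def, hsndmul, IsScalarTower.algebraMap_apply R A B', hA]
        simp only [rho₀_snd, Derivation.map_algebraMap, tmul_zero, smul_zero, add_zero,
          RingHom.id_apply]
        rw [← IsScalarTower.algebraMap_apply R A B', ← algebraMap_smul B (algebraMap R B' r),
          ← IsScalarTower.algebraMap_apply R B' B, algebraMap_smul] }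
  let δ : Derivation R B' (B ⊗[A] Ω[A⁄R]) := Derivation.mk' δlin (fun a b => hsndmul a b)
  have hδA : ∀ a : A, δ (algebraMap A B' a) = (1 : B) ⊗ₜ[A] KaehlerDifferential.D R A a := by
    intro a
    change (vT (algebraMap A B' a)).snd = _
    rw [hA, rho₀_snd]
  let l₁ : Ω[B'⁄R] →ₗ[B'] B ⊗[A] Ω[A⁄R] := δ.liftKaehlerDifferential
  let L : B ⊗[B'] Ω[B'⁄R] →ₗ[B] B ⊗[A] Ω[A⁄R] := LinearMap.liftBaseChange B l₁
  have key : ∀ ω : Ω[A⁄R], l₁ (KaehlerDifferential.map R R A B' ω) = (1 : B) ⊗ₜ[A] ω := by
    intro ω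
    have hω : ω ∈ Submodule.span A (Set.range (KaehlerDifferential.D R A)) := by
      rw [KaehlerDifferential.span_range_derivation]; trivial
    induction hω using Submodule.span_induction with
    | mem x hx =>
      obtain ⟨a, rfl⟩ := hx
      rw [KaehlerDifferential.map_D]
      change δ.liftKaehlerDifferential _ = _
      rw [Derivation.liftKaehlerDifferential_comp_D, hδA]
    | zero => simp
    | add x y _ _ hx hy => rw [map_add, map_add, hx, hy, tmul_add]
    | smul a x _ hx =>
      rw [map_smul, ← algebraMap_smul B' a (KaehlerDifferential.map R R A B' x), map_smul, hx,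
        algebraMap_smul, tmul_smul]
  have hcomp : L ∘ₗ ((KaehlerDifferential.mapBaseChange R A B').baseChange B) =
      (TensorProduct.AlgebraTensorModule.cancelBaseChange A B' B B Ω[A⁄R]).toLinearMap := by
    apply TensorProduct.AlgebraTensorModule.ext
    intro b z
    induction z using TensorProduct.induction_on with
    | zero => simp
    | tmul b' ω =>
      rw [LinearMap.comp_apply, LinearMap.baseChange_tmul, KaehlerDifferential.mapBaseChange_tmul,
        LinearMap.liftBaseChange_tmul, map_smul, key, LinearEquiv.coe_coe,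
        TensorProduct.AlgebraTensorModule.cancelBaseChange_tmul, TensorProduct.smul_tmul',
        TensorProduct.smul_tmul', smul_eq_mul, Algebra.smul_def, Algebra.smul_def, mul_one,
        mul_comm]
    | add x y hx hy => rw [tmul_add, map_add, hx, hy, map_add]
  intro x y hxy
  have hx := DFunLike.congr_fun hcomp x
  have hy := DFunLike.congr_fun hcomp y
  rw [LinearMap.comp_apply] at hx hy
  rw [hxy, hy] at hx
  exact ((TensorProduct.AlgebraTensorModule.cancelBaseChange A B' B B Ω[A⁄R]).injective hx).symm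

end

end Groth.Agent.Helper7.Deriv
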